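import Groth.Agent.Lib.OX.RHomDual

/-! # Biduality for perfect complexes of modules, and the evaluation isomorphism -/

set_option autoImplicit false
set_option maxHeartbeats 1000000
universe u

open CategoryTheory CategoryTheory.Limits CategoryTheory.Pretriangulated AlgebraicGeometry HomologicalComplex

attribute [local instance] HasDerivedCategory.standard

namespace GrothLib.DualPerf22

open GrothLib.OX

/-- A null-homotopic map with degreewise injective target extends along a degreewise monomorphism. -/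
theorem exists_extension_of_null_injective {C : Type*} [Category C] [Preadditive C] {K K' L : CochainComplex C ℤ}
    (f : K ⟶ K') (hf : ∀ n, Mono (f.f n)) (hL : ∀ n, Injective (L.X n)) (v : K ⟶ L) (h : Homotopy v 0) :
    ∃ w : K' ⟶ L, f ≫ w = v := by
  refine ⟨Homotopy.nullHomotopicMap fun i j =>
    haveI := hf i
    haveI := hL j
    Injective.factorThru (h.hom i j) (f.f i), ?_⟩
  rw [Homotopy.comp_nullHomotopicMap]
  refine HomologicalComplex.hom_ext _ _ fun n => ?_
  have e : (fun i j => f.f i ≫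
      (haveI := hf i
       haveI := hL j
       Injective.factorThru (h.hom i j) (f.f i))) = h.hom := by
    funext i j
    haveI := hf i
    haveI := hL j
    exact Injective.comp_factorThru _ _
  rw [e]
  have := h.comm n
  rw [HomologicalComplex.zero_f, add_zero] at this
  exact this.symm

variable {X U : Scheme.{u}}

/-- `A ⊗ -` is right exact. -/
theorem tensorCx_rightExact (A : CochainComplex X.Modules ℤ)
    {S : ShortComplex (CochainComplex X.Modules ℤ)} (hS : S.ShortExact) :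
    (S.map ((DCoh.tensorCx (X := X)).obj A)).Exact ∧ Epi (S.map ((DCoh.tensorCx (X := X)).obj A)).g := by
  have : ((DCoh.tensorCx (X := X)).obj A).IsLeftAdjoint := Functor.isLeftAdjoint_of_iso (tensorFlipIso A)
  have : PreservesColimitsOfSize.{0, 0} ((DCoh.tensorCx (X := X)).obj A) :=
    (Adjunction.ofIsLeftAdjoint _).leftAdjoint_preservesColimits
  have := hS.epi_g
  exact ⟨ShortComplex.exact_of_g_is_cokernel _
      (CokernelCofork.mapIsColimit _ hS.gIsCokernel ((DCoh.tensorCx (X := X)).obj A)),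
    inferInstanceAs (Epi (((DCoh.tensorCx (X := X)).obj A).map S.g))⟩

/-- `Hom(-, I)` is exact for a complex of injective modules `I`. -/
theorem homSeq_shortExact {S : ShortComplex (CochainComplex X.Modules ℤ)} (hS : S.ShortExact)
    (I : CochainComplex X.Modules ℤ) (hI : ∀ n, Injective (I.X n)) : (homSeq S I).ShortExact := by
  have hepi : ∀ A, Epi (((DCoh.tensorCx (X := X)).flip.map S.g).app A) := fun A => (tensorCx_rightExact A hS).2
  have hm : Mono (homMap S.g I) := ⟨fun {A} a b h => by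
    apply ((homCxAdj S.X₃).homEquiv _ I).symm.injective
    have h' := congrArg ((homCxAdj S.X₂).homEquiv A I).symm h
    rw [homEquiv_homMap, homEquiv_homMap] at h'
    exact (@cancel_epi _ _ _ _ _ _ (hepi A) _ _).1 h'⟩
  have : Mono (homSeq S I).f := hm
  refine { exact := ShortComplex.exact_of_f_is_kernel _ (KernelFork.IsLimit.ofι' _ _ fun {A} k hk => ?_), epi_g := ?_ }
  · let k' : A ⟶ (homCx S.X₂).obj I := k
    have hk' : k' ≫ homMap S.f I = 0 := hk
    have h' : ((DCoh.tensorCx (X := X)).flip.map S.f).app A ≫ ((homCxAdj S.X₂).homEquiv A I).symm k' = 0 := by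
      rw [← homEquiv_homMap, hk', homEquiv_symm_zero]
    have hex : (S.map ((DCoh.tensorCx (X := X)).obj A)).Exact := (tensorCx_rightExact A hS).1
    have : Epi (S.map ((DCoh.tensorCx (X := X)).obj A)).g := (tensorCx_rightExact A hS).2
    refine ⟨(homCxAdj S.X₃).homEquiv A I (hex.desc _ h'), ?_⟩
    apply ((homCxAdj S.X₂).homEquiv A I).symm.injective
    exact ((homEquiv_homMap S.g _).trans (congrArg (_ ≫ ·) (Equiv.symm_apply_apply _ _))).trans (hex.g_desc _ h')
  · let H := (homCx S.X₁).obj I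
    obtain ⟨P, q, -, hP', -, hqe⟩ := exists_kflat_resolution (H⟦(-1 : ℤ)⟧)
    let D := CochainComplex.mappingCone (𝟙 P)
    let m : D ⟶ P⟦(1 : ℤ)⟧ := (coneShortComplex (𝟙 P)).g
    have hmE : Epi m :=
      have : ∀ n, Epi (m.f n) := fun n => (coneSplitting (𝟙 P) n).shortExact.epi_g
      HomologicalComplex.epi_of_epi_f _ this
    let q' : P⟦(1 : ℤ)⟧ ⟶ (H⟦(-1 : ℤ)⟧)⟦(1 : ℤ)⟧ := (shiftFunctor (CochainComplex X.Modules ℤ) (1 : ℤ)).map q
    have hqE : Epi q' :=
      have : ∀ n, Epi (q'.f n) := fun n => hqe (n + 1)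
      HomologicalComplex.epi_of_epi_f _ this
    let c := (shiftFunctorCompIsoId (CochainComplex X.Modules ℤ) (-1 : ℤ) 1 (by omega)).app H
    let π : D ⟶ H := m ≫ q' ≫ c.hom
    have hπ : Epi π := by
      have : Epi (q' ≫ c.hom) := epi_comp q' c.hom
      exact epi_comp m (q' ≫ c.hom)
    let h₀ := CochainComplex.mappingCone.homotopyToZeroOfId P
    obtain ⟨hv⟩ := transpose_symm_null ((Homotopy.ofEq (Category.id_comp π).symm).trans
      (homotopyZeroOfContractible h₀ (𝟙 D) π))
    have hD : FlatTerms D := flatTerms_mappingCone _ hP' hP'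
    have hf : ∀ n, Mono ((((DCoh.tensorCx (X := X)).obj D).map S.f).f n) := fun n =>
      ((tensorCx_shortExact_of_flatTerms hD hS).map_of_exact
        (HomologicalComplex.eval X.Modules (ComplexShape.up ℤ) n)).mono_f
    obtain ⟨w, hw⟩ := exists_extension_of_null_injective (((DCoh.tensorCx (X := X)).obj D).map S.f) hf hI _ hv
    have hπ' : (homCxAdj S.X₂).homEquiv D I w ≫ homMap S.f I = π := by
      apply ((homCxAdj S.X₁).homEquiv _ I).symm.injective
      rw [homEquiv_homMap, Equiv.symm_apply_apply]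
      exact hw
    exact @epi_of_epi_fac _ _ _ _ _ _ _ _ hπ hπ'

variable (j : U ⟶ X) [IsOpenImmersion j]

/-- `Hom(Z, I)` vanishes over an open where `Z` is acyclic. -/
theorem acyclic_resCx_homCx {Z : CochainComplex X.Modules ℤ} (hz : ((resCx j).obj Z).Acyclic)
    (I : CochainComplex X.Modules ℤ) [I.IsKInjective] : ((resCx j).obj ((homCx Z).obj I)).Acyclic := by
  let T := (resCx j).obj ((homCx Z).obj I)
  let adj := KInj.mapComplexAdj (CxOX.extZeroAdj j) (ComplexShape.up ℤ)
  obtain ⟨T', q, hT', -, hq, -⟩ := exists_kflat_resolution T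
  have h1 : ((tensR ((resCx j).obj Z)).obj T').Acyclic :=
    DerCat.acyclic_of_iso (tensorCxSymm T' ((resCx j).obj Z)) ((isKFlat_iff T').1 hT' _ hz)
  have h2 : ((tensR Z).obj ((jzCx j).obj T')).Acyclic :=
    DerCat.acyclic_of_iso ((extTensNatIso j Z).app T').symm
      (acyclic_map _ (fun _ hS => hS.map (CxOX.extZero j)) _ h1)
  let ε : (jzCx j).obj T' ⟶ (homCx Z).obj I := (jzCx j).map q ≫ adj.counit.app _
  obtain ⟨k⟩ := null_of_acyclic h2 (((homCxAdj Z).homEquiv ((jzCx j).obj T') I).symm ε)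
  obtain ⟨k'⟩ := transpose_null k
  rw [Equiv.apply_symm_apply] at k'
  have e : q = adj.unit.app T' ≫ (resCx j).map ε := by
    rw [Functor.map_comp]
    exact ((Category.comp_id q).symm.trans
      ((congrArg (q ≫ ·) (adj.right_triangle_components ((homCx Z).obj I)).symm).trans
        ((Category.assoc _ _ _).symm.trans
          ((congrArg (· ≫ _) (adj.unit.naturality q)).trans (Category.assoc _ _ _)))))
  have h3 : Homotopy q 0 :=
    (Homotopy.ofEq e).trans
      ((((Scheme.Modules.restrictFunctor j).mapHomotopy k').compLeft (adj.unit.app T')).trans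
        (Homotopy.ofEq (by simp)))
  exact fun i => by
    rw [HomologicalComplex.exactAt_iff_isZero_homology, IsZero.iff_id_eq_zero,
      ← cancel_epi (HomologicalComplex.homologyMap q i), comp_zero, Category.comp_id,
      h3.homologyMap_eq i, HomologicalComplex.homologyMap_zero]

/-- `Hom(-, I)` respects quasi-isomorphisms over an open. -/
theorem quasiIso_resCx_homMap {P Q : CochainComplex X.Modules ℤ} (α : P ⟶ Q) (hα : QuasiIso ((resCx j).map α))
    (I : CochainComplex X.Modules ℤ) [I.IsKInjective] (hI : ∀ n, Injective (I.X n)) :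
    QuasiIso ((resCx j).map (homMap α I)) := by
  let R := resCx j
  let M := CochainComplex.mappingCone (𝟙 P)
  have hM : M.Acyclic := (DerCat.quasiIso_iff_acyclic_mappingCone (𝟙 P)).1 inferInstance
  let a : P ⟶ Q ⊞ M := biprod.lift α (CochainComplex.mappingCone.inr (𝟙 P))
  let σ : (ShortComplex.mk (biprod.inr : M ⟶ Q ⊞ _) biprod.fst biprod.inr_fst).Splitting :=
    { r := biprod.snd, s := biprod.inl, f_r := biprod.inr_snd, s_g := biprod.inl_fst
      id := (add_comm _ _).trans biprod.total }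
  have hfst : QuasiIso (R.map (biprod.fst : Q ⊞ M ⟶ Q)) :=
    DerCat.quasiIso_g_of_acyclic (σ.map R).shortExact (acyclic_resCx j hM)
  have ha : QuasiIso (R.map a) :=
    have : QuasiIso (R.map a ≫ R.map biprod.fst) := by rw [← Functor.map_comp, biprod.lift_fst]; exact hα
    quasiIso_of_comp_right (R.map a) (R.map biprod.fst)
  have hr : ∀ n, a.f n ≫ (biprod.snd : Q ⊞ M ⟶ _).f n ≫
      (CochainComplex.mappingCone.snd (𝟙 P)).v n n (add_zero n) = 𝟙 (P.X n) := fun n => by
    rw [← Category.assoc, ← HomologicalComplex.comp_f, biprod.lift_snd, CochainComplex.mappingCone.inr_f_snd_v]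
  have : Mono a := HomologicalComplex.mono_of_mono_f a fun n => (SplitMono.mk _ (hr n)).mono
  let S : ShortComplex (CochainComplex X.Modules ℤ) := ShortComplex.mk a (cokernel.π a) (cokernel.condition a)
  have hS : S.ShortExact := { exact := ShortComplex.exact_of_g_is_cokernel _ (cokernelIsCokernel a) }
  have hRS : ∀ (S' : ShortComplex (CochainComplex X.Modules ℤ)), S'.ShortExact → (S'.map R).ShortExact :=
    fun S' h' => HomologicalComplex.shortExact_of_degreewise_shortExact _ fun n =>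
      (h'.map_of_exact (HomologicalComplex.eval X.Modules (ComplexShape.up ℤ) n)).map_of_exact
        (Scheme.Modules.restrictFunctor j)
  have : QuasiIso (S.map R).f := ha
  have hX₃ : (R.obj S.X₃).Acyclic := DerCat.acyclic_X₃_of_quasiIso (hRS S hS)
  have h₁ : QuasiIso (R.map (homMap a I)) :=
    DerCat.quasiIso_g_of_acyclic (hRS _ (homSeq_shortExact hS I hI)) (acyclic_resCx_homCx j hX₃ I)
  let S' : ShortComplex (CochainComplex X.Modules ℤ) :=
    ShortComplex.mk (biprod.inr : M ⟶ Q ⊞ _) biprod.fst biprod.inr_fst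
  have h₂ : QuasiIso (R.map (homMap (biprod.fst : Q ⊞ M ⟶ Q) I)) :=
    DerCat.quasiIso_f_of_acyclic (hRS _ (homSeq_shortExact (S := S') σ.shortExact I hI))
      (acyclic_resCx_homCx j (acyclic_resCx j hM) I)
  have hc : homMap α I = homMap (biprod.fst : Q ⊞ M ⟶ Q) I ≫ homMap a I := by
    apply ((homCxAdj P).homEquiv _ I).symm.injective
    rw [homEquiv_homMap]
    conv_rhs => rw [← Category.id_comp (homMap (biprod.fst : Q ⊞ M ⟶ Q) I), homEquiv_homMap]
    conv_lhs => rw [← Category.id_comp (homMap α I), homEquiv_homMap, show α = a ≫ biprod.fst from (biprod.lift_fst _ _).symm]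
    rw [Functor.map_comp, NatTrans.comp_app, Category.assoc]
  rw [hc, Functor.map_comp]
  exact quasiIso_comp _ _

theorem bicxBraiding_natural₂ (K : CochainComplex X.Modules ℤ) {E E' : CochainComplex X.Modules ℤ} (φ : E ⟶ E') :
    (((DCoh.tensorBi (X := X)).mapBifunctorHomologicalComplex (ComplexShape.up ℤ) (ComplexShape.up ℤ)).obj K).map φ ≫
        (bicxBraiding K E').inv =
      (bicxBraiding K E).inv ≫
        (((DCoh.tensorBi (X := X)).flip.mapBifunctorHomologicalComplex (ComplexShape.up ℤ) (ComplexShape.up ℤ)).obj K).map φ :=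
  HomologicalComplex.hom_ext _ _ fun i => HomologicalComplex.hom_ext _ _ fun p =>
    ((tensorBraiding (X := X)).inv.app (K.X i)).naturality (φ.f p)

/-- The symmetry of the tensor product of complexes is natural in the other variable too. -/
theorem tensorCxSymm_natural₂ (K : CochainComplex X.Modules ℤ) {E E' : CochainComplex X.Modules ℤ} (φ : E ⟶ E') :
    ((DCoh.tensorCx (X := X)).obj K).map φ ≫ (tensorCxSymm E' K).hom =
      (tensorCxSymm E K).hom ≫ ((DCoh.tensorCx (X := X)).map φ).app K := by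
  let Fb := (DCoh.tensorBi (X := X)).mapBifunctorHomologicalComplex (ComplexShape.up ℤ) (ComplexShape.up ℤ)
  let Fl := (DCoh.tensorBi (X := X)).flip.mapBifunctorHomologicalComplex (ComplexShape.up ℤ) (ComplexShape.up ℤ)
  have hb : ((Fb.map (𝟙 K)).app E ≫ (Fb.obj K).map φ) ≫ (bicxBraiding K E').inv =
      (bicxBraiding K E).inv ≫ ((Fl.map (𝟙 K)).app E ≫ (Fl.obj K).map φ) := by
    rw [CategoryTheory.Functor.map_id, CategoryTheory.Functor.map_id]
    exact (congrArg (· ≫ _) (Category.id_comp _)).trans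
      ((bicxBraiding_natural₂ K φ).trans (congrArg (_ ≫ ·) (Category.id_comp _)).symm)
  have hm : ((DCoh.tensorCx (X := X)).obj K).map φ =
      HomologicalComplex.mapBifunctorMap (𝟙 K) φ (DCoh.tensorBi (X := X)) (ComplexShape.up ℤ) := rfl
  have h1 : ((DCoh.tensorCx (X := X)).obj K).map φ ≫
      (HomologicalComplex₂.total.mapIso (bicxBraiding K E') (ComplexShape.up ℤ)).inv =
      (HomologicalComplex₂.total.mapIso (bicxBraiding K E) (ComplexShape.up ℤ)).inv ≫
        HomologicalComplex.mapBifunctorMap (𝟙 K) φ (DCoh.tensorBi (X := X)).flip (ComplexShape.up ℤ) := by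
    rw [hm]
    exact (HomologicalComplex₂.total.map_comp _ _ _).symm.trans
      ((congrArg (fun t => HomologicalComplex₂.total.map t (ComplexShape.up ℤ)) hb).trans
        (HomologicalComplex₂.total.map_comp _ _ _))
  have h2 := HomologicalComplex.mapBifunctorFlipIso_hom_naturality (K₁ := E) (L₁ := E') φ (𝟙 K)
    (DCoh.tensorBi (X := X)) (ComplexShape.up ℤ)
  exact ((Category.assoc _ _ _).symm.trans (congrArg (· ≫ _) h1)).trans
    ((Category.assoc _ _ _).trans ((congrArg (_ ≫ ·) h2).trans (Category.assoc _ _ _).symm))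

variable (J : CochainComplex X.Modules ℤ)

/-- The biduality map `E ⟶ Hom(Hom(E, J), J)`. -/
noncomputable def evC (E : CochainComplex X.Modules ℤ) : E ⟶ (homCx ((homCx E).obj J)).obj J :=
  (homCxAdj ((homCx E).obj J)).homEquiv E J
    ((tensorCxSymm ((homCx E).obj J) E).hom ≫ (homCxAdj E).counit.app J)

theorem evC_square {C : Type*} [Category C] {a b c d e f g : C} {x : a ⟶ b} {s : b ⟶ c} {ev : c ⟶ d}
    {y : a ⟶ e} {t : e ⟶ f} {ev' : f ⟶ d} {s' : a ⟶ g} {z : g ⟶ c} {z' : g ⟶ f}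
    (h1 : x ≫ s = s' ≫ z) (h2 : y ≫ t = s' ≫ z') (h3 : z' ≫ ev' = z ≫ ev) :
    x ≫ s ≫ ev = y ≫ t ≫ ev' := by
  rw [reassoc_of% h1, reassoc_of% h2, h3]

/-- Naturality of the biduality map. -/
theorem evC_natural {E E' : CochainComplex X.Modules ℤ} (f : E ⟶ E') :
    evC J E ≫ homMap (homMap f J) J = f ≫ evC J E' := by
  apply ((homCxAdj ((homCx E').obj J)).homEquiv _ J).symm.injective
  rw [homEquiv_homMap, evC, evC, Equiv.symm_apply_apply, Adjunction.homEquiv_naturality_left_symm,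
    Equiv.symm_apply_apply]
  have h : ((DCoh.tensorCx (X := X)).flip.map f).app ((homCx E').obj J) ≫ (homCxAdj E').counit.app J =
      (tensR E).map (homMap f J) ≫ (homCxAdj E).counit.app J :=
    (Equiv.symm_apply_apply ((homCxAdj E).homEquiv _ J) _).symm.trans ((homCxAdj E).homEquiv_counit _ _ _)
  exact evC_square (tensorCxSymm_natural₂ E (homMap f J)) (tensorCxSymm_natural f ((homCx E').obj J)) h

/-- The transpose along `- ⊗ O` of a quasi-isomorphism is one. -/
theorem quasiIso_homEquiv_unit {A B : CochainComplex X.Modules ℤ}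
    (v : (tensR (unitCx X)).obj A ⟶ B) [QuasiIso v] :
    QuasiIso ((homCxAdj (unitCx X)).homEquiv A B v) := by
  have h1 : (tensR (unitCx X)).IsEquivalence := Functor.isEquivalence_of_iso singleUnitNatIso.symm
  have : IsIso (homCxAdj (unitCx X)).unit := inferInstance
  have hH : QuasiIso ((homCx (unitCx X)).map v) :=
    (quasiIso_iff_of_arrow_mk_iso _ _ (Arrow.isoMk (homCxUnitIso.app _) (homCxUnitIso.app _)
      (homCxUnitIso.hom.naturality v).symm)).2 inferInstance
  rw [Adjunction.homEquiv_unit]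
  exact quasiIso_comp _ _

variable {J}

theorem quasiIso_resCx_evC_unit [J.IsKInjective] (hJ : ∀ n, Injective (J.X n)) (i₀ : unitCx X ⟶ J) [QuasiIso i₀] :
    QuasiIso ((resCx j).map (evC J (unitCx X))) := by
  let O := unitCx X
  let v : (tensR O).obj O ⟶ J := singleUnitNatIso.hom.app O ≫ i₀
  have hv : QuasiIso v := quasiIso_comp _ _
  let g : O ⟶ (homCx O).obj J := (homCxAdj O).homEquiv O J v
  have hg : QuasiIso g := quasiIso_homEquiv_unit v
  let u : (tensR O).obj O ⟶ J := (tensorCxSymm O O).hom ≫ v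
  have hu : QuasiIso u := quasiIso_comp _ _
  have key : evC J O ≫ homMap g J = (homCxAdj O).homEquiv O J u := by
    apply ((homCxAdj O).homEquiv _ J).symm.injective
    rw [homEquiv_homMap, evC, Equiv.symm_apply_apply, Equiv.symm_apply_apply]
    have hgv : (tensR O).map g ≫ (homCxAdj O).counit.app J = v :=
      ((homCxAdj O).homEquiv_counit _ _ _).symm.trans (Equiv.symm_apply_apply _ _)
    exact ((Category.assoc _ _ _).symm.trans (congrArg (· ≫ _) (tensorCxSymm_natural₂ O g))).trans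
      ((Category.assoc _ _ _).trans (congrArg (_ ≫ ·) hgv))
  have h3 := quasiIso_resCx_homMap j g (quasiIso_resCx_map j g hg) J hJ
  have h4 : QuasiIso ((resCx j).map (evC J O ≫ homMap g J)) := by
    rw [key]
    exact quasiIso_resCx_map j _ (quasiIso_homEquiv_unit u)
  rw [Functor.map_comp] at h4
  exact (quasiIso_iff_comp_right _ _).1 h4

theorem quasiIso_resCx_evC_iff [J.IsKInjective] (hJ : ∀ n, Injective (J.X n))
    {E E' : CochainComplex X.Modules ℤ} (f : E ⟶ E') (hf : QuasiIso ((resCx j).map f)) :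
    QuasiIso ((resCx j).map (evC J E)) ↔ QuasiIso ((resCx j).map (evC J E')) := by
  have h1 := quasiIso_resCx_homMap j (homMap f J) (quasiIso_resCx_homMap j f hf J hJ) J hJ
  have h := congrArg (resCx j).map (evC_natural J f)
  rw [Functor.map_comp, Functor.map_comp] at h
  rw [← quasiIso_iff_comp_right _ ((resCx j).map (homMap (homMap f J) J)), h, quasiIso_iff_comp_left]

variable (W : X.Opens)

theorem quasiIso_resCx_evC_contractible [J.IsKInjective] {E : CochainComplex X.Modules ℤ} (h : Homotopy (𝟙 E) 0) :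
    QuasiIso ((resCx W.ι).map (evC J E)) := by
  have hE : E.Acyclic := fun i => by
    rw [HomologicalComplex.exactAt_iff_isZero_homology, IsZero.iff_id_eq_zero,
      ← HomologicalComplex.homologyMap_id, h.homologyMap_eq i, HomologicalComplex.homologyMap_zero]
  exact quasiIso_of_acyclic_both _ (acyclic_resCx W.ι hE)
    (acyclic_resCx_homCx W.ι (acyclic_resCx W.ι (acyclic_homCx_of_contractible h J)) J)

theorem quasiIso_resCx_evC_ext [J.IsKInjective] (hJ : ∀ n, Injective (J.X n))
    {E₁ E₂ E₃ : CochainComplex X.Modules ℤ} (f : E₁ ⟶ E₂) (g : E₂ ⟶ E₃) (w : f ≫ g = 0)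
    (hS : (ShortComplex.mk f g w).ShortExact) :
    (QuasiIso ((resCx W.ι).map (evC J E₁)) → QuasiIso ((resCx W.ι).map (evC J E₂)) → QuasiIso ((resCx W.ι).map (evC J E₃))) ∧
      (QuasiIso ((resCx W.ι).map (evC J E₁)) → QuasiIso ((resCx W.ι).map (evC J E₃)) → QuasiIso ((resCx W.ι).map (evC J E₂))) ∧
      (QuasiIso ((resCx W.ι).map (evC J E₂)) → QuasiIso ((resCx W.ι).map (evC J E₃)) → QuasiIso ((resCx W.ι).map (evC J E₁))) := by
  let S : ShortComplex (CochainComplex X.Modules ℤ) := ShortComplex.mk f g w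
  have hRS : ∀ (S' : ShortComplex (CochainComplex X.Modules ℤ)), S'.ShortExact → (S'.map (resCx W.ι)).ShortExact :=
    fun S' h' => HomologicalComplex.shortExact_of_degreewise_shortExact _ fun n =>
      (h'.map_of_exact (HomologicalComplex.eval X.Modules (ComplexShape.up ℤ) n)).map_of_exact
        (Scheme.Modules.restrictFunctor W.ι)
  exact two_of_three_of_squares (resCx W.ι) (𝟭 (CochainComplex X.Modules ℤ)) f g w
    (homMap (homMap f J) J) (homMap (homMap g J) J) (homMap_comp_zero (homSeq S J) J)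
    (evC J E₁) (evC J E₂) (evC J E₃) (evC_natural J f) (evC_natural J g)
    (hRS _ hS) (hRS _ (homSeq_shortExact (homSeq_shortExact hS J hJ) J hJ))

theorem evC_ext_jz [J.IsKInjective] (hJ : ∀ n, Injective (J.X n))
    {S : ShortComplex (CochainComplex (W : Scheme.{u}).Modules ℤ)}
    (σ : ∀ q, (S.map (HomologicalComplex.eval (W : Scheme.{u}).Modules (ComplexShape.up ℤ) q)).Splitting) :
    (QuasiIso ((resCx W.ι).map (evC J ((jzCx W.ι).obj S.X₁))) → QuasiIso ((resCx W.ι).map (evC J ((jzCx W.ι).obj S.X₂))) → QuasiIso ((resCx W.ι).map (evC J ((jzCx W.ι).obj S.X₃)))) ∧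
      (QuasiIso ((resCx W.ι).map (evC J ((jzCx W.ι).obj S.X₁))) → QuasiIso ((resCx W.ι).map (evC J ((jzCx W.ι).obj S.X₃))) → QuasiIso ((resCx W.ι).map (evC J ((jzCx W.ι).obj S.X₂)))) ∧
      (QuasiIso ((resCx W.ι).map (evC J ((jzCx W.ι).obj S.X₂))) → QuasiIso ((resCx W.ι).map (evC J ((jzCx W.ι).obj S.X₃))) → QuasiIso ((resCx W.ι).map (evC J ((jzCx W.ι).obj S.X₁)))) :=
  quasiIso_resCx_evC_ext W hJ (E₁ := (jzCx W.ι).obj S.X₁) (E₂ := (jzCx W.ι).obj S.X₂) (E₃ := (jzCx W.ι).obj S.X₃)
    ((jzCx W.ι).map S.f) ((jzCx W.ι).map S.g) (by rw [← Functor.map_comp, S.zero, Functor.map_zero])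
    (HomologicalComplex.shortExact_of_degreewise_shortExact _ fun q => ((σ q).map (CxOX.extZero W.ι)).shortExact)

theorem quasiIso_resCx_evC_base [J.IsKInjective] (hJ : ∀ n, Injective (J.X n)) (i₀ : unitCx X ⟶ J) [QuasiIso i₀] :
    QuasiIso ((resCx W.ι).map (evC J ((jzCx W.ι).obj (unitCx (W : Scheme.{u}))))) := by
  let e : unitCx (W : Scheme.{u}) ≅ (resCx W.ι).obj (unitCx X) :=
    (single _ _ 0).mapIso (((Scheme.Modules.restrictFunctorIsoPullback W.ι).app _) ≪≫ pullUnitIso W.ι).symm ≪≫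
      ((singleMapHomologicalComplex (Scheme.Modules.restrictFunctor W.ι) (ComplexShape.up ℤ) 0).app _).symm
  let ε : (jzCx W.ι).obj ((resCx W.ι).obj (unitCx X)) ⟶ unitCx X :=
    (KInj.mapComplexAdj (CxOX.extZeroAdj W.ι) (ComplexShape.up ℤ)).counit.app (unitCx X)
  have hε : IsIso ((resCx W.ι).map ε) :=
    have : ∀ n, IsIso (((resCx W.ι).map ε).f n) := fun n => isIso_restrict_epsZ W.ι ((unitCx X).X n)
    HomologicalComplex.Hom.isIso_of_components _
  have hq : QuasiIso ((resCx W.ι).map ((jzCx W.ι).map e.hom ≫ ε)) := by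
    rw [Functor.map_comp]
    infer_instance
  exact (quasiIso_resCx_evC_iff W.ι hJ ((jzCx W.ι).map e.hom ≫ ε) hq).2 (quasiIso_resCx_evC_unit W.ι hJ i₀)

theorem devissage_evC [J.IsKInjective] (hJ : ∀ n, Injective (J.X n)) (i₀ : unitCx X ⟶ J) [QuasiIso i₀] :
    Devissage (X := (W : Scheme.{u})) fun E => QuasiIso ((resCx W.ι).map (evC J ((jzCx W.ι).obj E))) where
  iso {E E'} e h := (quasiIso_resCx_evC_iff W.ι hJ ((jzCx W.ι).map e.hom)
    (quasiIso_resCx_map W.ι ((jzCx W.ι).map e.hom) inferInstance)).1 h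
  contractible {E} h := quasiIso_resCx_evC_contractible W (E := (jzCx W.ι).obj E)
    ((Homotopy.ofEq ((jzCx W.ι).map_id E).symm).trans
      (((CxOX.extZero W.ι).mapHomotopy h).trans (Homotopy.ofEq ((jzCx W.ι).map_zero E E))))
  base := quasiIso_resCx_evC_base W hJ i₀
  ext₁ {S} σ h₂ h₃ := (evC_ext_jz W hJ σ).2.2 h₂ h₃
  ext₂ {S} σ h₁ h₃ := (evC_ext_jz W hJ σ).2.1 h₁ h₃
  ext₃ {S} σ h₁ h₂ := (evC_ext_jz W hJ σ).1 h₁ h₂

/-- A map which is a quasi-isomorphism near every point is an isomorphism in the derived category. -/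
theorem isIso_Q_of_local {K L : CochainComplex X.Modules ℤ} (φ : K ⟶ L)
    (h : ∀ y : X, ∃ V : X.Opens, y ∈ V ∧ QuasiIso ((resCx V.ι).map φ)) : IsIso (DerivedCategory.Q.map φ) := by
  obtain ⟨C, g, c, hT⟩ := distinguished_cocone_triangle (DerivedCategory.Q.map φ)
  suffices IsZero C from (Triangle.isZero₃_iff_isIso₁ _ hT).1 this
  refine isZero_of_support_empty fun q => Set.eq_empty_iff_forall_notMem.2 fun y hy => ?_
  obtain ⟨V, hyV, hV⟩ := h y
  have h3 : IsZero ((resD V.ι).obj C) :=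
    isZero_resD_cone V.ι (DerivedCategory.Q.map φ) g c hT (isIso_resD_map_Q V.ι φ hV)
  exact (isZero_resD_iff_support V.ι C).1 h3 q hy ⟨⟨y, hyV⟩, rfl⟩

/-- `Hom(-, I)` respects quasi-isomorphisms. -/
theorem isIso_Q_homMap {P Q : CochainComplex X.Modules ℤ} (α : P ⟶ Q) (hα : QuasiIso α)
    (I : CochainComplex X.Modules ℤ) [I.IsKInjective] (hI : ∀ n, Injective (I.X n)) :
    IsIso (DerivedCategory.Q.map (homMap α I)) :=
  isIso_Q_of_local _ fun _ => ⟨⊤, trivial, quasiIso_resCx_homMap _ α (quasiIso_resCx_map _ α hα) I hI⟩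

/-- **Biduality**: `P ⟶ Hom(Hom(P, J), J)` is a quasi-isomorphism for perfect `P`. -/
theorem isIso_Q_evC [J.IsKInjective] (hJ : ∀ n, Injective (J.X n)) (i₀ : unitCx X ⟶ J) [QuasiIso i₀]
    (P : CochainComplex X.Modules ℤ) (hperf : DCoh.IsPerfect (DerivedCategory.Q.obj P)) :
    IsIso (DerivedCategory.Q.map (evC J P)) := by
  refine isIso_Q_of_local _ fun y => ?_
  obtain ⟨V₁, E₁, hy₁, hE₁, ⟨i₁⟩⟩ := (isPerfect_iff_rep (Iso.refl _)).1 hperf y
  obtain ⟨V, E, hyV, ⟨a, m, hb⟩, hf, -, ⟨i⟩⟩ := exists_free_bounded hE₁ hy₁ i₁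
  refine ⟨V, hyV, ?_⟩
  obtain ⟨Z, s, hs, g', heq⟩ := DerivedCategory.right_fac i.inv
  have hg' : IsIso (DerivedCategory.Q.map g') :=
    @IsIso.of_isIso_fac_left _ _ _ _ _ _ _ _ (inferInstance : IsIso (inv (DerivedCategory.Q.map s)))
      (inferInstance : IsIso i.inv) heq.symm
  have hqs : QuasiIso s := (DerivedCategory.isIso_Q_map_iff_quasiIso _ s).1 hs
  have hqg : QuasiIso g' := (DerivedCategory.isIso_Q_map_iff_quasiIso _ g').1 hg'
  let adj := KInj.mapComplexAdj (CxOX.extZeroAdj V.ι) (ComplexShape.up ℤ)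
  have hu : ∀ {K L : CochainComplex (V : Scheme.{u}).Modules ℤ} (φ : K ⟶ L),
      QuasiIso φ → QuasiIso ((resCx V.ι).map ((jzCx V.ι).map φ)) := fun {K L} φ h =>
    have := isIso_unit_cx V.ι K
    have := isIso_unit_cx V.ι L
    (quasiIso_iff_of_arrow_mk_iso φ _ (Arrow.isoMk (asIso (adj.unit.app K)) (asIso (adj.unit.app L))
      (adj.unit.naturality φ).symm)).1 h
  have hε : IsIso ((resCx V.ι).map (adj.counit.app P)) :=
    have : ∀ n, IsIso (((resCx V.ι).map (adj.counit.app P)).f n) := fun n => isIso_restrict_epsZ V.ι (P.X n)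
    HomologicalComplex.Hom.isIso_of_components _
  have h0 := (devissage_evC V hJ i₀).of_bounded m E a hb fun k => Or.inr (hf k)
  have h1 : QuasiIso ((resCx V.ι).map (evC J ((jzCx V.ι).obj Z))) :=
    (quasiIso_resCx_evC_iff V.ι hJ (E := (jzCx V.ι).obj Z) (E' := (jzCx V.ι).obj E) ((jzCx V.ι).map s)
      (hu _ hqs)).2 h0
  refine (quasiIso_resCx_evC_iff V.ι hJ (E := (jzCx V.ι).obj Z) (E' := P)
    ((jzCx V.ι).map g' ≫ adj.counit.app P) ?_).1 h1
  have := hu _ hqg
  rw [Functor.map_comp]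
  exact quasiIso_comp _ _

/-- **`RHom(L, M) ⊗^L K = RHom(RHom(K, L), M)` for perfect `K`.** -/
theorem nonempty_tensor_evaluation (K L : CochainComplex X.Modules ℤ) (hK : DCoh.IsKFlat K)
    (hKp : DCoh.IsPerfect (DerivedCategory.Q.obj K))
    [DCoh.HasLTensorCx K] [DCoh.HasRSheafHom K] [DCoh.HasLTensorCx L] [DCoh.HasRSheafHom L]
    (D : CochainComplex X.Modules ℤ)
    (e : DerivedCategory.Q.obj D ≅ (DCoh.RSheafHom K).obj (DerivedCategory.Q.obj L))
    [DCoh.HasLTensorCx D] [DCoh.HasRSheafHom D] (M : DCoh.D X) :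
    Nonempty ((DCoh.LTensorCx K).obj ((DCoh.RSheafHom L).obj M) ≅ (DCoh.RSheafHom D).obj M) := by
  obtain ⟨J, i₀, hi₀, hJ, hJi⟩ := KInj.exists_kInjective_resolution (A := X.Modules) (unitCx X)
  obtain ⟨Dk, q, hDk, -, hq, -⟩ := exists_kflat_resolution ((homCx K).obj J)
  obtain ⟨L', r, hL', -, hr, -⟩ := exists_kflat_resolution L
  have := hasLTensorCx Dk
  have := hasRSheafHom Dk
  have := hasLTensorCx L'
  have := hasRSheafHom L'
  obtain ⟨vJ⟩ := nonempty_RSheafHom_value K hK J
  let iD : DerivedCategory.Q.obj Dk ≅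
      (DCoh.RSheafHom K).obj ((DerivedCategory.singleFunctor X.Modules 0).obj (Coh.structureModule X)) :=
    asIso (DerivedCategory.Q.map q) ≪≫ vJ.symm ≪≫
      (DCoh.RSheafHom K).mapIso ((asIso (DerivedCategory.Q.map i₀)).symm ≪≫ unitCxQIso X)
  have hDkp : DCoh.IsPerfect (DerivedCategory.Q.obj Dk) :=
    isPerfect_of_iso (isPerfect_RSheafHom_of_perfect K hKp (isPerfect_unit X)) iD.symm
  obtain ⟨vD⟩ := nonempty_RSheafHom_value Dk hDk J
  have h1 : IsIso (DerivedCategory.Q.map (evC J K)) := isIso_Q_evC hJi i₀ K hKp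
  have h2 : IsIso (DerivedCategory.Q.map (homMap q J)) := isIso_Q_homMap q hq J hJi
  let iK : DerivedCategory.Q.obj K ≅
      (DCoh.RSheafHom Dk).obj ((DerivedCategory.singleFunctor X.Modules 0).obj (Coh.structureModule X)) :=
    asIso (DerivedCategory.Q.map (evC J K)) ≪≫ asIso (DerivedCategory.Q.map (homMap q J)) ≪≫ vD.symm ≪≫
      (DCoh.RSheafHom Dk).mapIso ((asIso (DerivedCategory.Q.map i₀)).symm ≪≫ unitCxQIso X)
  obtain ⟨c1⟩ := nonempty_tensor_dual_iso Dk K hDk hDkp iK ((DCoh.RSheafHom L).obj M)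
  obtain ⟨cL⟩ := nonempty_RSheafHom_congr (asIso (DerivedCategory.Q.map r)).symm
  let C := ((DCoh.tensorCx (X := X)).obj Dk).obj L'
  have := hasLTensorCx C
  have := hasRSheafHom C
  let c2 := (Adjunction.rightAdjointUniq
    (((DCoh.RSheafHomAdj Dk).comp (DCoh.RSheafHomAdj L')).ofNatIsoLeft (ltensorCompIso Dk L' hL'))
    (DCoh.RSheafHomAdj C)).app M
  obtain ⟨dA⟩ := nonempty_tensor_dual_iso K Dk hK hKp iD (DerivedCategory.Q.obj L')
  obtain ⟨w⟩ := ltensorCx_value_of_isKFlat Dk hDk L'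
  let eC : DerivedCategory.Q.obj C ≅ DerivedCategory.Q.obj D :=
    DerivedCategory.Q.mapIso (tensorCxSymm L' Dk) ≪≫ w.symm ≪≫ dA ≪≫
      (DCoh.RSheafHom K).mapIso (asIso (DerivedCategory.Q.map r)) ≪≫ e.symm
  obtain ⟨c3⟩ := nonempty_RSheafHom_congr eC
  exact ⟨c1 ≪≫ (DCoh.RSheafHom Dk).mapIso (cL.app M) ≪≫ c2 ≪≫ c3.app M⟩

end GrothLib.DualPerf22
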